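import Cfsg.Agent.H443.PC.Defs
import Cfsg.Agent.Mrg.Omega.ML.Ex.Ext

/-!
# S3876, row_char, P3e: split (B,N)-pairs with one node (helper117)

* `rankOne` : `L₂(F)` (`|F| ≥ 4` even), `U₃(q)` (`q ≠ 2` even) and `Sz(q)` have a split (B,N)-pair of characteristic two
  with exactly one node.
-/

set_option autoImplicit false
set_option linter.unusedSectionVars false

namespace Cfsg.Agent.H117.PC

open Subgroup CoxeterSystem Cfsg.Agent.ChevalleyStructure.CoxeterGeom Cfsg.Agent.Tits.Roots Cfsg.Agent.Tits.Core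
  Cfsg.Agent.Tits.RootComb Cfsg.Agent.Nodes.Comb Cfsg.Agent.Nodes.Reps Cfsg.Agent.Nodes.BNOf
open Cfsg.Agent.FixBN Cfsg.Agent.FixBN.SplitRGD Cfsg.Agent.Omega.Lie.End

/-- A split (B,N)-pair of characteristic `p` with exactly one node. -/
def OneNode (p : ℕ) (K : Type*) [Group K] : Prop :=
  ∃ (P : Cfsg.BNPair K) (U : Subgroup K), P.S.Nonempty ∧ Split P p U ∧ P.S.Subsingleton

theorem OneNode.congr {p : ℕ} {K L : Type*} [Group K] [Group L] (e : K ≃* L) (h : OneNode p K) : OneNode p L := by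
  obtain ⟨P, U, hne, hs, hc⟩ := h
  exact ⟨Transport.mapBN e P, U.map e.toMonoidHom, hne.image _, Transport.split e P hs, hc.image _⟩

section rgd

variable {I W Y : Type*} [Fintype I] [DecidableEq I] [Group W] [Group Y] {M : CoxeterMatrix I}
  {cs : CoxeterSystem M W} {A : I → I → ℤ} {h : IsCartan M A} {p : ℕ} {T : Subgroup Y} {n : I → Y}
  {X : (I → ℤ) → Subgroup Y}

theorem oneNode_of_rgd [Finite W] [Nonempty I] [Subsingleton I] [IsSimpleGroup Y] (hp : p.Prime)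
    (R : RGD cs h p T n X) (hgen : RGD.Sup X {x | IsRoot cs h x} = ⊤) : OneNode p Y := by
  obtain ⟨i⟩ := (inferInstance : Nonempty I)
  have hg := NodeRGD.gen_of_top R hgen
  have hne : (R.bnPair hg).S.Nonempty := ⟨n i, i, rfl⟩
  have hs := split_of_rgd hp R hg (Cfsg.Agent.Tits.OfBN.normalCore_eq_bot (R.bnPair hg) hne)
  refine ⟨R.bnPair hg, _, hne, hs, ?_⟩
  rintro _ ⟨a, rfl⟩ _ ⟨b, rfl⟩
  rw [Subsingleton.elim a b]

end rgd

theorem oneNode_of_two {Y : Type*} [Group Y] [IsSimpleGroup Y] (h : IsLTwo Y) : OneNode 2 Y := by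
  obtain ⟨F, _, _, _, -, ⟨e⟩⟩ := h
  obtain ⟨A, h, T, n, X, hW, R, hX, -⟩ := Cfsg.Agent.Omega.CR.psl_rgd e.symm
  exact oneNode_of_rgd Nat.prime_two R hX

section U3

open Cfsg.Agent.Nodes.TypeC Cfsg.Agent.Nodes.WittRoot Cfsg.Agent.Nodes Cfsg.Agent.Nodes.WittAll Cfsg.Agent.Nodes.WittU
open Cfsg.Agent.TitsThree Cfsg.Agent.TitsThree.Siegel Cfsg.Agent.TitsThree.SiegelGen Cfsg.Agent.TitsThree.WittFrame
open Cfsg.Agent.Omega.Lie.End.KWittRow Cfsg.Agent.Omega.Lie.End.KWittFour Cfsg.Agent.Omega.Lie.End.RowWitt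
open Cfsg.Agent.TitsThree.KSideU Cfsg.Agent.TitsThree.KSideUDesc Cfsg.Agent.TitsThree.WBridge

theorem oneNode_of_three {Y : Type*} [Group Y] [IsSimpleGroup Y] (h : IsUThree Y) : OneNode 2 Y := by
  obtain ⟨F, _, _, _, q, hF, hq, ⟨e⟩⟩ := h
  have hs : IsSimpleGroup (Cfsg.PSU 3 F q) := e.symm.isSimpleGroup
  refine OneNode.congr e.symm ?_
  have : Fact (Nat.Prime 2) := ⟨Nat.prime_two⟩
  have hm : 3 = 2 * 1 ∨ 3 = 2 * 1 + 1 := Or.inr rfl
  obtain ⟨W, -⟩ := exists_wframe hF hm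
  obtain ⟨p0, hp0, -⟩ := exists_adm hF W
  have hA : AmbT (toFrame W) 2 (KInstU.model hF (by omega : 3 ≤ 3) W).I := AmbT.of_amb (amb_U hF W) 2
  have hfin : Finite (CoxeterMatrix.B 1).Group := finite_W (CoxeterMatrix.B 1).toCoxeterSystem
  have R := rgdC_model (KInstU.model hF (by omega : 3 ≤ 3) W) hA hp0 (CoxeterMatrix.B 1).toCoxeterSystem
  have hG := WittModel.G1_eq_top (KInstU.model hF (by omega : 3 ≤ 3) W) (by omega : 0 < 1)
    (CoxeterMatrix.B 1).toCoxeterSystem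
  exact oneNode_of_rgd Nat.prime_two R hG

end U3

theorem oneNode_of_sz {G : Type*} [Group G] (h : Cfsg.Lie.IsoSuzuki G) : OneNode 2 G := by
  obtain ⟨K, i1, i2, m, hm, hK, ⟨e⟩⟩ := h
  have H := LieRecognition.SzMatrix.good hK
  have hs : IsSimpleGroup ↥(Cfsg.Lie.Sz K (2 ^ (m + 1))) := Cfsg.Agent.S1162.result hm hK
  exact OneNode.congr e.symm ⟨Cfsg.Agent.Omega.ML.LieRow.SzSplit.bnPair H, H.unip, ⟨H.w, rfl⟩,
    Cfsg.Agent.Omega.ML.LieRow.SzSplit.split hm hK H hs, Set.subsingleton_singleton⟩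

/-- **P3e**: the groups of rank one in characteristic two have a split (B,N)-pair with exactly one node. -/
theorem rankOne {Y : Type*} [Group Y] [Finite Y] [IsSimpleGroup Y]
   (h : (∃ (F : Type) (_ : Field F) (_ : Fintype F), CharP F 2 ∧ 4 ≤ Fintype.card F ∧
    Nonempty (Y ≃* Matrix.ProjectiveSpecialLinearGroup (Fin 2) F)) ∨
   (∃ (F : Type) (_ : Field F) (_ : Fintype F) (_ : CharP F 2) (q : ℕ), Fintype.card F = q ^ 2 ∧ q ≠ 2 ∧
    Nonempty (Y ≃* PSU 3 F q)) ∨ Cfsg.Lie.IsoSuzuki Y) :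
   ∃ (P : Cfsg.BNPair Y) (U : Subgroup Y), P.S.Nonempty ∧ Split P 2 U ∧ P.S.Subsingleton := by
  rcases h with h | h | h
  · exact oneNode_of_two h
  · exact oneNode_of_three h
  · exact oneNode_of_sz h

end Cfsg.Agent.H117.PC
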